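import Mathlib
import Groth.Prelude.Def_EssEt

set_option autoImplicit false

open IsLocalRing TensorProduct

namespace Groth.Agent.EssEt14

universe u

variable {A B : Type u} [CommRing A] [IsLocalRing A] [CommRing B] [Algebra A B]

theorem formallyEtale (h : EGA4loc.IsEssentiallyEtale A B) : Algebra.FormallyEtale A B := by
  obtain ⟨C, _, _, q, _, _, _, ⟨e⟩⟩ := h
  have : Algebra.FormallyEtale C (Localization.AtPrime q) := .of_isLocalization q.primeCompl
  have : Algebra.FormallyEtale A (Localization.AtPrime q) := .comp A C _
  exact .of_equiv e.symm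

theorem essFiniteType (h : EGA4loc.IsEssentiallyEtale A B) : Algebra.EssFiniteType A B := by
  obtain ⟨C, _, _, q, _, _, _, ⟨e⟩⟩ := h
  have : Algebra.EssFiniteType C (Localization.AtPrime q) := .of_isLocalization _ q.primeCompl
  have : Algebra.EssFiniteType A (Localization.AtPrime q) := .comp A C _
  exact .of_surjective e.symm.toAlgHom e.symm.surjective

theorem isLocalHom [IsLocalRing B] (h : EGA4loc.IsEssentiallyEtale A B) :
    IsLocalHom (algebraMap A B) := by
  obtain ⟨C, _, _, q, _, _, hq, ⟨e⟩⟩ := h
  refine ((local_hom_TFAE (algebraMap A B)).out 0 4).2 ?_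
  have hmax : (maximalIdeal (Localization.AtPrime q)).comap (algebraMap A (Localization.AtPrime q)) =
      maximalIdeal A := by
    rw [IsScalarTower.algebraMap_eq A C, ← Ideal.comap_comap,
      show (maximalIdeal (Localization.AtPrime q)).comap (algebraMap C (Localization.AtPrime q)) = q from
        IsLocalization.AtPrime.under_maximalIdeal (Localization.AtPrime q) q, hq]
  rw [← hmax]
  ext a
  simp only [Ideal.mem_comap, mem_maximalIdeal, mem_nonunits_iff]
  rw [← e.commutes, MulEquiv.isUnit_map]

theorem map_maximalIdeal [IsLocalRing B] (h : EGA4loc.IsEssentiallyEtale A B) :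
    (maximalIdeal A).map (algebraMap A B) = maximalIdeal B := by
  have := essFiniteType h
  have := formallyEtale h
  have := isLocalHom h
  exact Algebra.FormallyUnramified.map_maximalIdeal

theorem isLocalHom_algHom [IsLocalRing B] (h : EGA4loc.IsEssentiallyEtale A B) {C : Type u} [CommRing C]
    [IsLocalRing C] [Algebra A C] [IsLocalHom (algebraMap A C)] (φ : B →ₐ[A] C) :
    IsLocalHom φ.toRingHom := by
  refine ((local_hom_TFAE φ.toRingHom).out 0 2).2 ?_
  rw [← map_maximalIdeal h, Ideal.map_map, AlgHom.toRingHom_eq_coe, AlgHom.comp_algebraMap]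
  exact ((local_hom_TFAE (algebraMap A C)).out 0 2).1 ‹_›

/-- Rigidity: maps to a local ring out of a formally unramified essentially finite type algebra
are determined by the map to the residue field. -/
theorem algHom_ext [Algebra.EssFiniteType A B] [Algebra.FormallyUnramified A B] {C : Type u} [CommRing C]
    [IsLocalRing C] [Algebra A C] (u v : B →ₐ[A] C)
    (h : (residue C).comp u.toRingHom = (residue C).comp v.toRingHom) : u = v := by
  obtain ⟨t, ht, ht1⟩ := (Algebra.FormallyUnramified.iff_exists_tensorProduct (R := A) (S := B)).1 inferInstance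
  let w : B ⊗[A] B →ₐ[A] C := Algebra.TensorProduct.lift u v fun _ _ => mul_comm _ _
  have hw : ∀ a b : B, w (a ⊗ₜ[A] b) = u a * v b := fun a b => Algebra.TensorProduct.lift_tmul u v (fun _ _ => mul_comm _ _) a b
  have hres : ∀ x, residue C (w x) = residue C (u (Algebra.TensorProduct.lmul' A x)) := by
    intro x
    induction x using TensorProduct.induction_on with
    | zero => simp
    | add a b ha hb => simp only [map_add, ha, hb]
    | tmul a b =>
      have hb : residue C (v b) = residue C (u b) := (RingHom.congr_fun h b).symm
      simp only [hw, Algebra.TensorProduct.lmul'_apply_tmul, map_mul, hb]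
  have hu : IsUnit (w t) := (residue_ne_zero_iff_isUnit _).1 (by rw [hres, ht1, map_one, map_one]; exact one_ne_zero)
  refine AlgHom.ext fun s => (sub_eq_zero.1 ((hu.mul_left_eq_zero).1 ?_)).symm
  have := congrArg w (ht s)
  simp only [map_mul, map_sub, map_zero, hw, map_one, one_mul, mul_one] at this
  exact this

end Groth.Agent.EssEt14
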