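import Mathlib
import Groth.Agent.EssEt14.Basic

set_option autoImplicit false

open IsLocalRing

namespace Groth.Agent.EssEt14

universe u

/-- A finitely presented algebra over a localization descends. -/
theorem exists_fp_descent {C0 B : Type u} [CommRing C0] [CommRing B] [Algebra C0 B]
    (M : Submonoid C0) [IsLocalization M B] (D : Type u) [CommRing D] [Algebra B D] [Algebra C0 D]
    [IsScalarTower C0 B D] [Algebra.FinitePresentation B D] :
    ∃ (D0 : Type u) (_ : CommRing D0) (_ : Algebra C0 D0) (f : D0 →ₐ[C0] D) (N : Submonoid D0),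
      Algebra.FinitePresentation C0 D0 ∧ @IsLocalization D0 _ N D _ f.toRingHom.toAlgebra := by
  classical
  obtain ⟨n, φ, hφ, hker⟩ := Algebra.FinitePresentation.out (R := B) (A := D)
  let ι : MvPolynomial (Fin n) C0 →+* MvPolynomial (Fin n) B := MvPolynomial.map (algebraMap C0 B)
  letI : Algebra (MvPolynomial (Fin n) C0) (MvPolynomial (Fin n) B) := MvPolynomial.algebraMvPolynomial
  have hι : algebraMap (MvPolynomial (Fin n) C0) (MvPolynomial (Fin n) B) = ι := rfl
  let M' : Submonoid (MvPolynomial (Fin n) C0) := M.map MvPolynomial.C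
  obtain ⟨s, hs⟩ := hker
  choose num hnum using fun p : MvPolynomial (Fin n) B => IsLocalization.surj M' p
  let s0 := s.image fun p => (num p).1
  let I0 : Ideal (MvPolynomial (Fin n) C0) := Ideal.span (s0 : Set (MvPolynomial (Fin n) C0))
  let φ0 : MvPolynomial (Fin n) C0 →ₐ[C0] D :=
    (φ.restrictScalars C0).comp (MvPolynomial.mapAlgHom (Algebra.ofId C0 B))
  have hφ0 : ∀ p, φ0 p = φ (ι p) := fun p => rfl
  have hunit : ∀ m : M', IsUnit (φ0 m) := fun m => (IsLocalization.map_units (MvPolynomial (Fin n) B) m).map φ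
  have hI0 : ∀ x ∈ I0, φ0 x = 0 := by
    intro x hx
    refine (show I0 ≤ RingHom.ker φ0.toRingHom from Ideal.span_le.2 ?_) hx
    intro y hy
    obtain ⟨p, hp, rfl⟩ := Finset.mem_image.1 hy
    simp only [SetLike.mem_coe, RingHom.mem_ker, AlgHom.toRingHom_eq_coe, RingHom.coe_coe]
    have hpk : φ p = 0 := RingHom.mem_ker.1 (hs ▸ Ideal.subset_span hp)
    rw [hφ0, ← hι, ← hnum p, map_mul, hpk, zero_mul]
  let f : (MvPolynomial (Fin n) C0 ⧸ I0) →ₐ[C0] D := Ideal.Quotient.liftₐ I0 φ0 hI0
  refine ⟨_, inferInstance, inferInstance, f, M'.map (Ideal.Quotient.mk I0),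
    Algebra.FinitePresentation.quotient ⟨s0, rfl⟩, ?_⟩
  letI := f.toRingHom.toAlgebra
  have hf : ∀ p, algebraMap (MvPolynomial (Fin n) C0 ⧸ I0) D (Ideal.Quotient.mk I0 p) = φ0 p := fun p => rfl
  constructor
  · constructor
    · rintro ⟨_, m, hm, rfl⟩
      rw [hf]
      exact hunit ⟨m, hm⟩
    · intro d
      obtain ⟨p, rfl⟩ := hφ d
      obtain ⟨⟨a, m⟩, ha⟩ := IsLocalization.surj M' p
      refine ⟨⟨Ideal.Quotient.mk I0 a, ⟨Ideal.Quotient.mk I0 (m : MvPolynomial (Fin n) C0), (m : MvPolynomial (Fin n) C0), m.2, rfl⟩⟩, ?_⟩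
      simp only [hf, hφ0, ← hι, ← ha, map_mul]
    · intro x y hxy
      obtain ⟨x, rfl⟩ := Ideal.Quotient.mk_surjective x
      obtain ⟨y, rfl⟩ := Ideal.Quotient.mk_surjective y
      rw [hf, hf, hφ0, hφ0, ← sub_eq_zero, ← map_sub, ← map_sub] at hxy
      have hmem : ι (x - y) ∈ I0.map (algebraMap _ (MvPolynomial (Fin n) B)) := by
        have hle : (Ideal.span (s : Set (MvPolynomial (Fin n) B))) ≤ I0.map (algebraMap _ (MvPolynomial (Fin n) B)) := by
          refine Ideal.span_le.2 fun p hp => ?_
          have h1 : p * algebraMap _ _ ((num p).2 : MvPolynomial (Fin n) C0) ∈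
              I0.map (algebraMap _ (MvPolynomial (Fin n) B)) := by
            rw [hnum p]
            exact Ideal.mem_map_of_mem _ (Ideal.subset_span (Finset.mem_image_of_mem _ hp))
          exact (Ideal.mul_unit_mem_iff_mem _ (IsLocalization.map_units _ (num p).2)).1 h1
        exact hle (show ι (x - y) ∈ Ideal.span _ from hs.symm ▸ RingHom.mem_ker.2 hxy)
      obtain ⟨⟨⟨i, hi⟩, m⟩, hm⟩ := (IsLocalization.mem_map_algebraMap_iff M' _).1 hmem
      rw [← hι, ← map_mul] at hm
      obtain ⟨c, hc⟩ := IsLocalization.exists_of_eq (M := M') hm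
      refine ⟨⟨Ideal.Quotient.mk I0 ((c : MvPolynomial (Fin n) C0) * m), _, M'.mul_mem c.2 m.2, rfl⟩, ?_⟩
      rw [← map_mul, ← map_mul, Ideal.Quotient.mk_eq_mk_iff_sub_mem]
      have : (c : MvPolynomial (Fin n) C0) * m * x - c * m * y = c * i := by
        rw [← hc]; ring
      rw [this]
      exact Ideal.mul_mem_left _ _ hi

theorem trans (A : Type u) [CommRing A] [IsLocalRing A]
    (B : Type u) [CommRing B] [IsLocalRing B] [Algebra A B]
    (C : Type u) [CommRing C] [Algebra B C] [Algebra A C] [IsScalarTower A B C]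
    (hB : EGA4loc.IsEssentiallyEtale A B) (hC : EGA4loc.IsEssentiallyEtale B C) :
    EGA4loc.IsEssentiallyEtale A C := by
  have hloc := isLocalHom hB
  have hfeB := formallyEtale hB
  obtain ⟨C0, _, _, q, _, hC0, hq, ⟨eB⟩⟩ := hB
  obtain ⟨D, _, _, Q, _, hD, hQ, ⟨eC⟩⟩ := hC
  let ψ : C0 →ₐ[A] B := eB.symm.toAlgHom.comp (IsScalarTower.toAlgHom A C0 (Localization.AtPrime q))
  letI : Algebra C0 B := ψ.toRingHom.toAlgebra
  have : IsScalarTower A C0 B := IsScalarTower.of_algHom ψ
  let eB' : Localization.AtPrime q ≃ₐ[C0] B := { eB.symm.toRingEquiv with commutes' := fun c => rfl }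
  have hB' : IsLocalization q.primeCompl B := IsLocalization.isLocalization_of_algEquiv q.primeCompl eB'
  letI : Algebra C0 D := ((algebraMap B D).comp (algebraMap C0 B)).toAlgebra
  have : IsScalarTower C0 B D := IsScalarTower.of_algebraMap_eq fun _ => rfl
  letI : Algebra A D := ((algebraMap B D).comp (algebraMap A B)).toAlgebra
  have : IsScalarTower A B D := IsScalarTower.of_algebraMap_eq fun _ => rfl
  have : IsScalarTower A C0 D := IsScalarTower.of_algebraMap_eq fun a => by
    change algebraMap B D (algebraMap A B a) = algebraMap B D (algebraMap C0 B (algebraMap A C0 a))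
    rw [← IsScalarTower.algebraMap_apply A C0 B]
  obtain ⟨D0, _, _, f, N, hfp, hN⟩ := exists_fp_descent q.primeCompl (B := B) D
  letI : Algebra D0 D := f.toRingHom.toAlgebra
  have := hN
  have : IsScalarTower C0 D0 D := IsScalarTower.of_algHom f
  letI : Algebra A D0 := ((algebraMap C0 D0).comp (algebraMap A C0)).toAlgebra
  have : IsScalarTower A C0 D0 := IsScalarTower.of_algebraMap_eq fun _ => rfl
  have : IsScalarTower A D0 D := IsScalarTower.of_algebraMap_eq fun a => by
    rw [IsScalarTower.algebraMap_apply A C0 D, IsScalarTower.algebraMap_apply C0 D0 D,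
      ← IsScalarTower.algebraMap_apply A C0 D0]
  have : Algebra.FinitePresentation A D0 := Algebra.FinitePresentation.trans A C0 D0
  let p : Ideal D0 := Q.comap (algebraMap D0 D)
  have hp : IsLocalization.AtPrime (Localization.AtPrime Q) p :=
    IsLocalization.isLocalization_isLocalization_atPrime_isLocalization N (Localization.AtPrime Q) Q
  have hfeQ : Algebra.FormallyEtale A (Localization.AtPrime Q) := by
    have : Algebra.FormallyEtale A D := .comp A B D
    have : Algebra.FormallyEtale D (Localization.AtPrime Q) := .of_isLocalization Q.primeCompl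
    exact .comp A D _
  let e0 : Localization.AtPrime p ≃ₐ[D0] Localization.AtPrime Q :=
    IsLocalization.algEquiv p.primeCompl _ _
  have : Algebra.IsEtaleAt A p := Algebra.FormallyEtale.of_equiv (e0.restrictScalars A).symm
  obtain ⟨g, hg, hEt⟩ := Algebra.exists_etale_of_isEtaleAt (R := A) p
  let P : Ideal (Localization.Away g) := p.map (algebraMap D0 (Localization.Away g))
  have hd : Disjoint (Submonoid.powers g : Set D0) (p : Set D0) := by
    rw [Set.disjoint_left]
    rintro _ ⟨k, rfl⟩ h
    exact hg ((inferInstance : p.IsPrime).mem_of_pow_mem k h)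
  have hPp : P.IsPrime := IsLocalization.isPrime_of_isPrime_disjoint (Submonoid.powers g) _ p inferInstance hd
  have hPc : P.comap (algebraMap D0 (Localization.Away g)) = p :=
    IsLocalization.comap_map_of_isPrime_disjoint (Submonoid.powers g) _ inferInstance hd
  refine ⟨Localization.Away g, inferInstance, inferInstance, P, hPp, hEt, ?_, ⟨?_⟩⟩
  · rw [IsScalarTower.algebraMap_eq A D0, ← Ideal.comap_comap, hPc]
    change (Q.comap (algebraMap D0 D)).comap (algebraMap A D0) = _
    rw [Ideal.comap_comap, ← IsScalarTower.algebraMap_eq, IsScalarTower.algebraMap_eq A B D,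
      ← Ideal.comap_comap, hQ]
    exact ((local_hom_TFAE (algebraMap A B)).out 0 4).1 hloc
  · have h1 : IsLocalization.AtPrime (Localization.AtPrime P) p := by
      have := IsLocalization.isLocalization_isLocalization_atPrime_isLocalization (Submonoid.powers g)
        (Localization.AtPrime P) P
      simpa [hPc] using this
    let e1 : Localization.AtPrime Q ≃ₐ[D0] Localization.AtPrime P :=
      IsLocalization.algEquiv p.primeCompl _ _
    exact (eC.restrictScalars A).trans (e1.restrictScalars A)

end Groth.Agent.EssEt14
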